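import Mathlib.GroupTheory.FreeGroup.NielsenSchreier
import Mathlib.GroupTheory.FreeGroup.Reduce
import Mathlib.GroupTheory.SemidirectProduct
import Mathlib.GroupTheory.Index
import Mathlib.Tactic.Group
import Mathlib.Data.Fintype.Lattice
import Mathlib.Data.Set.Finite.Basic
import Mathlib.Algebra.Group.Action.Sigma

/-!
The group of a finite group `Γ` acting on a graph: pairs `(w, σ)` with `w` a reduced edge
word (a path from the base vertex) in the free group on the edges and `σ : Γ` sending the
base vertex to the end of the path.
-/

namespace Cfsg.Agent.GraphGroup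

open FreeGroup

universe u

variable {Γ E : Type u} [Group Γ] [MulAction Γ E]

/-- translated word -/
def sm (σ : Γ) (L : List (E × Bool)) : List (E × Bool) := L.map fun x => (σ • x.1, x.2)

@[simp] theorem sm_nil (σ : Γ) : sm σ ([] : List (E × Bool)) = [] := rfl
@[simp] theorem sm_cons (σ : Γ) (x : E × Bool) (L : List (E × Bool)) :
    sm σ (x :: L) = (σ • x.1, x.2) :: sm σ L := rfl
@[simp] theorem sm_length (σ : Γ) (L : List (E × Bool)) : (sm σ L).length = L.length :=
  List.length_map _

/-- the action on the free group -/
def act : Γ →* MulAut (FreeGroup E) where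
  toFun σ := freeGroupCongr (MulAction.toPerm σ)
  map_one' := by
    ext w
    induction w using Quot.ind with
    | mk L =>
      rw [quot_mk_eq_mk]
      change FreeGroup.map _ (FreeGroup.mk L) = FreeGroup.mk L
      rw [FreeGroup.map.mk]
      simp
  map_mul' a b := by
    ext w
    induction w using Quot.ind with
    | mk L =>
      rw [quot_mk_eq_mk]
      change FreeGroup.map _ (FreeGroup.mk L) = FreeGroup.map _ (FreeGroup.map _ (FreeGroup.mk L))
      simp [FreeGroup.map.mk, Function.comp_def, mul_smul]

theorem act_mk (σ : Γ) (L : List (E × Bool)) :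
    act σ (FreeGroup.mk L) = FreeGroup.mk (sm σ L) := by
  change FreeGroup.map _ (FreeGroup.mk L) = _
  rw [FreeGroup.map.mk]; rfl

theorem isReduced_sm {σ : Γ} {L : List (E × Bool)} (h : FreeGroup.IsReduced L) : FreeGroup.IsReduced (sm σ L) := by
  unfold FreeGroup.IsReduced sm at *
  rw [List.isChain_map]
  exact h.imp fun a b hab he => hab (MulAction.injective σ he)

variable [DecidableEq E]

theorem toWord_act (σ : Γ) (w : FreeGroup E) : (act σ w).toWord = sm σ w.toWord := by
  conv_lhs => rw [← mk_toWord (x := w), act_mk, toWord_mk]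
  exact (isReduced_sm isReduced_toWord).reduce_eq

theorem fixed_letters {σ : Γ} {w : FreeGroup E} (h : act σ w = w) :
    ∀ a ∈ w.toWord, σ • a.1 = a.1 := by
  intro a ha
  have := toWord_act σ w
  rw [h] at this
  have h2 : List.map (fun x : E × Bool => (σ • x.1, x.2)) w.toWord =
      List.map id w.toWord := by
    rw [List.map_id]; exact this.symm
  exact congrArg Prod.fst (List.map_inj_left.1 h2 a ha)

theorem act_eq_of_fixed {σ : Γ} {L : List (E × Bool)} (h : ∀ a ∈ L, σ • a.1 = a.1) :
    act σ (FreeGroup.mk L) = FreeGroup.mk L := by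
  rw [act_mk]
  congr 1
  unfold sm
  conv_rhs => rw [← List.map_id L]
  apply List.map_inj_left.2
  intro a ha
  simp [h a ha]

/-- Length of the reduced word of `x⁻¹ * y`. -/
def dist (x y : FreeGroup E) : ℕ := (x⁻¹ * y).toWord.length

theorem dist_act (σ : Γ) (a x y : FreeGroup E) :
    dist (a * act σ x) (a * act σ y) = dist x y := by
  have : (a * act σ x)⁻¹ * (a * act σ y) = act σ (x⁻¹ * y) := by
    rw [_root_.map_mul, _root_.map_inv]; group
  rw [dist, dist, this, toWord_act, sm_length]

theorem common_prefix {α : Type*} : ∀ A B : List α, ∃ P A' B',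
    A = P ++ A' ∧ B = P ++ B' ∧ (∀ a b, A'.head? = some a → B'.head? = some b → a ≠ b)
  | [], B => ⟨[], [], B, rfl, rfl, by simp⟩
  | a :: A, [] => ⟨[], a :: A, [], rfl, rfl, by simp⟩
  | a :: A, b :: B => by
    classical
    by_cases hab : a = b
    · obtain ⟨P, A', B', rfl, rfl, h⟩ := common_prefix A B
      exact ⟨a :: P, A', B', rfl, by rw [hab]; rfl, h⟩
    · exact ⟨[], a :: A, b :: B, rfl, rfl, by simp [hab]⟩

theorem dist_split {P A B : List (E × Bool)} (hA : FreeGroup.IsReduced (P ++ A)) (hB : FreeGroup.IsReduced (P ++ B))
    (hne : ∀ a b, A.head? = some a → B.head? = some b → a ≠ b) :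
    dist (FreeGroup.mk (P ++ A)) (FreeGroup.mk (P ++ B)) = A.length + B.length := by
  have hA' : FreeGroup.IsReduced A := hA.infix (List.suffix_append P A).isInfix
  have hB' : FreeGroup.IsReduced B := hB.infix (List.suffix_append P B).isInfix
  have hred : FreeGroup.IsReduced (invRev A ++ B) := by
    unfold FreeGroup.IsReduced
    rw [List.isChain_append]
    refine ⟨?_, hB', ?_⟩
    · have h1 : FreeGroup.IsReduced (invRev A) := by
        apply FreeGroup.IsReduced.of_reduce_eq
        rw [reduce_invRev, hA'.reduce_eq]
      exact h1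
    · intro x hx y hy h12
      cases A with
      | nil => simp [invRev] at hx
      | cons a A =>
        have hxa : x = (a.1, !a.2) := by
          simpa [invRev, List.getLast?_append] using hx.symm
        subst hxa
        have h0 := hne a y rfl hy
        rcases a with ⟨e, b⟩
        rcases y with ⟨e', b'⟩
        simp only at h12 ⊢
        subst h12
        cases b <;> cases b' <;> simp_all
  have : (FreeGroup.mk (P ++ A))⁻¹ * FreeGroup.mk (P ++ B) = FreeGroup.mk (invRev A ++ B) := by
    rw [← mul_mk, ← mul_mk, ← mul_mk, ← inv_mk]; group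
  rw [dist, this, toWord_mk, hred.reduce_eq]
  simp [invRev_length]

theorem dist_prefix_le {P A B : List (E × Bool)} :
    dist (FreeGroup.mk (P ++ A)) (FreeGroup.mk (P ++ B)) ≤ A.length + B.length := by
  have : (FreeGroup.mk (P ++ A))⁻¹ * FreeGroup.mk (P ++ B) = FreeGroup.mk (invRev A ++ B) := by
    rw [← mul_mk, ← mul_mk, ← mul_mk, ← inv_mk]; group
  rw [dist, this]
  refine (norm_mk_le (L₁ := invRev A ++ B)).trans ?_
  simp [invRev_length]

/-- Fixed vertex for a finite set of isometries of the Cayley tree. -/
theorem exists_fixed {ι : Type*} [Finite ι] (a : ι → FreeGroup E) (s : ι → Γ)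
    (one_mem : ∃ i, a i = 1) (hmul : ∀ i j, ∃ k, a k = a i * act (s i) (a j)) :
    ∃ (A : List (E × Bool)) (i₀ : ι), (a i₀).toWord = A ∧ ∃ k : ℕ,
      ∀ i, a i * act (s i) (FreeGroup.mk (A.take k)) = FreeGroup.mk (A.take k) := by
  classical
  obtain ⟨e, he⟩ := one_mem
  have : Nonempty ι := ⟨e⟩
  obtain ⟨m, hm⟩ := Finite.exists_max (fun i => (a i).toWord.length)
  set A := (a m).toWord with hA
  set n := A.length with hn
  refine ⟨A, m, rfl, n / 2, ?_⟩
  set k := n / 2 with hk
  have hperm : ∀ i j, ∃ l, a j = a i * act (s i) (a l) := by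
    intro i j
    choose F hF using fun l => hmul i l
    -- injectivity on the finite image
    let O : Finset (FreeGroup E) := (Set.finite_range a).toFinset
    have hmap : Set.MapsTo (fun z => a i * act (s i) z) ↑O ↑O := by
      intro z hz
      simp only [O, Set.Finite.coe_toFinset, Set.mem_range] at hz ⊢
      obtain ⟨l, rfl⟩ := hz
      exact ⟨F l, hF l⟩
    have hinj : Function.Injective (fun z => a i * act (s i) z) :=
      fun x y hxy => (act (s i)).injective (mul_left_cancel hxy)
    have hsurj := Finset.surjOn_of_injOn_of_card_le _ hmap hinj.injOn le_rfl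
    obtain ⟨z, hz, hz2⟩ := hsurj (show a j ∈ (O : Set _) by simp [O])
    simp only [O, Set.Finite.coe_toFinset, Set.mem_range] at hz
    obtain ⟨l, rfl⟩ := hz
    exact ⟨l, hz2.symm⟩
  -- all pairwise distances are at most n
  have hd : ∀ i j, dist (a i) (a j) ≤ n := by
    intro i j
    obtain ⟨l, hl⟩ := hperm i j
    have h1 : dist (a i * act (s i) 1) (a i * act (s i) (a l)) = dist 1 (a l) := dist_act _ _ _ _
    rw [_root_.map_one, mul_one, ← hl] at h1
    rw [h1]
    simpa [dist] using hm l
  have hAr : FreeGroup.IsReduced A := isReduced_toWord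
  set u := FreeGroup.mk (A.take k) with hu
  -- u is within n - k of every point
  have hu_le : ∀ j, dist u (a j) ≤ n - k := by
    intro j
    obtain ⟨P, A', B', hPA, hPB, hne⟩ := common_prefix A (a j).toWord
    have h1 := hd m j
    have h2 : dist (a m) (a j) = A'.length + B'.length := by
      have e1 : a m = FreeGroup.mk (P ++ A') := by rw [← hPA, hA, mk_toWord]
      have e2 : a j = FreeGroup.mk (P ++ B') := by rw [← hPB, mk_toWord]
      rw [e1, e2]
      exact dist_split (hPA ▸ hAr) (hPB ▸ isReduced_toWord) hne
    have e2 : a j = FreeGroup.mk (P ++ B') := by rw [← hPB, mk_toWord]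
    have hlA : n = P.length + A'.length := by rw [hn, hPA, List.length_append]
    have hlB : P.length + B'.length ≤ n := by
      have := hm j; rw [hPB, List.length_append] at this; exact this
    by_cases hc : k ≤ P.length
    · have hP : P = P.take k ++ P.drop k := (List.take_append_drop k P).symm
      have e3 : A.take k = P.take k := by rw [hPA, List.take_append_of_le_length hc]
      have h3 : dist (FreeGroup.mk (P.take k ++ [])) (FreeGroup.mk (P.take k ++ (P.drop k ++ B')))
          ≤ ([] : List (E × Bool)).length + (P.drop k ++ B').length := dist_prefix_le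
      rw [List.append_nil, ← List.append_assoc, ← hP, ← e2, ← e3, ← hu] at h3
      simp only [List.length_nil, List.length_append, List.length_drop] at h3
      omega
    · have e3 : A.take k = P ++ A'.take (k - P.length) := by
        rw [hPA, List.take_append, List.take_of_length_le (by omega)]
      have h3 : dist (FreeGroup.mk (P ++ A'.take (k - P.length))) (FreeGroup.mk (P ++ B'))
          ≤ (A'.take (k - P.length)).length + B'.length := dist_prefix_le
      rw [← e2, ← e3, ← hu] at h3
      simp only [List.length_take] at h3
      omega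
  -- the central points
  set u' := FreeGroup.mk (A.take (k + 1)) with hu'
  have hcentral : ∀ z : FreeGroup E, (∀ j, dist z (a j) ≤ n - k) → z = u ∨ z = u' := by
    intro z hz
    obtain ⟨P, A', C', hPA, hPC, hne⟩ := common_prefix A z.toWord
    have h1 : z.toWord.length ≤ n - k := by
      have := hz e
      rw [he, dist, mul_one, toWord_inv, invRev_length] at this
      exact this
    have h2 : C'.length + A'.length ≤ n - k := by
      have := hz m
      have e1 : a m = FreeGroup.mk (P ++ A') := by rw [← hPA, hA, mk_toWord]
      have e2 : z = FreeGroup.mk (P ++ C') := by rw [← hPC, mk_toWord]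
      rw [e1, e2, dist_split (hPC ▸ isReduced_toWord) (hPA ▸ hAr)
        (fun x y hx hy => (hne y x hy hx).symm)] at this
      exact this
    rw [hPC, List.length_append] at h1
    have hlA : n = P.length + A'.length := by rw [hn, hPA, List.length_append]
    have hC : C' = [] := List.eq_nil_of_length_eq_zero (by omega)
    have hz' : z = FreeGroup.mk P := by rw [← mk_toWord (x := z), hPC, hC, List.append_nil]
    have hP : A.take P.length = P := by rw [hPA, List.take_left']; rfl
    rcases (show P.length = k ∨ P.length = k + 1 by omega) with h | h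
    · left; rw [hz', hu, ← h, hP]
    · right; rw [hz', hu', ← h, hP]
  intro i
  have hmove : ∀ z, (∀ j, dist z (a j) ≤ n - k) → ∀ j, dist (a i * act (s i) z) (a j) ≤ n - k := by
    intro z hz j
    obtain ⟨l, hl⟩ := hperm i j
    rw [hl, dist_act]
    exact hz l
  have hiu := hmove u hu_le
  rcases hcentral _ hiu with h | h
  · exact h
  · rcases hcentral _ (hmove _ (h ▸ hiu)) with h' | h'
    · -- the two central points would be exchanged: impossible
      rw [h]
      by_contra hne
      have hlt : k < A.length := by
        by_contra hle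
        apply hne
        rw [hu, hu', List.take_of_length_le (by omega), List.take_of_length_le (by omega)]
      have hsplit : A.take (k + 1) = A.take k ++ [A[k]] := by
        rw [List.take_add_one, List.getElem?_eq_getElem hlt]; rfl
      have hu'eq : u' = u * FreeGroup.mk [A[k]] := by rw [hu', hu, mul_mk, hsplit]
      have h5 : u' * act (s i) (FreeGroup.mk [A[k]]) = u := by
        conv_lhs => rw [← h, mul_assoc, ← _root_.map_mul, ← hu'eq]
        exact h'
      rw [hu'eq, mul_assoc, mul_eq_left, mul_eq_one_iff_eq_inv, act_mk, inv_mk] at h5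
      have h6 := congrArg FreeGroup.toWord h5
      rw [toWord_mk, toWord_mk, FreeGroup.IsReduced.singleton.reduce_eq] at h6
      rcases hAk : A[k] with ⟨e', b'⟩
      rw [hAk] at h6
      simp [sm, invRev] at h6
    · rw [h]
      exact ((act (s i)).injective (mul_left_cancel (h.trans h'.symm))).symm

end Cfsg.Agent.GraphGroup
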