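import Cfsg.Agent.Lib.GraphGroup.Path
import Cfsg.Prelude.Def_FusionSystem

/-!
Every fusion system over a finite group `S` is realised by a path group over the symmetric
group on `S`.
-/

namespace Cfsg.Agent.GraphGroup

universe u

section Conj

variable {G : Type*} [Group G] [Finite G]

theorem exists_perm_conj (P : Subgroup G) (ψ : P →* G) (hψ : Function.Injective ψ) :
    ∃ g : Equiv.Perm G, ∀ (x : P) (s : G), g (x * s) = ψ x * g s := by
  classical
  have hcard : Nat.card (G ⧸ P) = Nat.card (G ⧸ ψ.range) := by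
    have h1 := P.card_mul_index
    have h2 := ψ.range.card_mul_index
    rw [← Nat.card_congr (MonoidHom.ofInjective hψ).toEquiv, ← h1] at h2
    exact (Nat.eq_of_mul_eq_mul_left Nat.card_pos h2).symm
  obtain ⟨e⟩ : Nonempty ((G ⧸ P) ≃ (G ⧸ ψ.range)) := ⟨(Finite.card_eq.1 hcard).some⟩
  have hmem : ∀ s : G, (QuotientGroup.mk s : G ⧸ P).out⁻¹ * s ∈ P := fun s =>
    QuotientGroup.eq.1 (QuotientGroup.out_eq' _)
  let h : G → G := fun s =>
    (e (QuotientGroup.mk s)).out * ψ ⟨(QuotientGroup.mk s : G ⧸ P).out⁻¹ * s, hmem s⟩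
  have hinj : Function.Injective h := by
    intro s t hst
    have hc : (QuotientGroup.mk s : G ⧸ P) = QuotientGroup.mk t := by
      apply e.injective
      have := congrArg (fun z => (QuotientGroup.mk z : G ⧸ ψ.range)) hst
      simp only [h] at this
      rwa [QuotientGroup.mk_mul_of_mem _ (MonoidHom.mem_range.2 ⟨_, rfl⟩),
        QuotientGroup.mk_mul_of_mem _ (MonoidHom.mem_range.2 ⟨_, rfl⟩), QuotientGroup.out_eq',
        QuotientGroup.out_eq'] at this
    simp only [h, hc, mul_left_cancel_iff, hψ.eq_iff, Subtype.mk.injEq] at hst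
    exact hst
  have heq : ∀ (s : G) (x : P), h (s * x) = h s * ψ x := by
    intro s x
    have hc : (QuotientGroup.mk (s * x) : G ⧸ P) = QuotientGroup.mk s :=
      QuotientGroup.mk_mul_of_mem _ x.2
    simp only [h, mul_assoc, ← _root_.map_mul]
    refine congrArg₂ (· * ·) (by rw [hc]) (congrArg ψ (Subtype.ext ?_))
    simp [hc, mul_assoc]
  refine ⟨(Equiv.inv G).trans ((Equiv.ofBijective h (Finite.injective_iff_bijective.1 hinj)).trans
    (Equiv.inv G)), fun x s => ?_⟩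
  show (h ((x : G) * s)⁻¹)⁻¹ = ψ x * (h s⁻¹)⁻¹
  clear_value h
  rw [mul_inv_rev, ← Subgroup.coe_inv, heq, map_inv, mul_inv_rev, inv_inv]

end Conj

variable {Ω : Type u} [Group Ω] {S : Subgroup Ω} [Finite S] (F : FusionSystem S)

/-- The regular representation. -/
def jS (S : Subgroup Ω) : S →* Equiv.Perm S := MulAction.toPermHom S S

omit [Finite S] in
theorem jS_inj : Function.Injective (jS S) := MulAction.toPerm_injective

/-- Index of the maps of the system. -/
abbrev Maps : Type u := (P : Subgroup Ω) × {φ : P →* Ω // φ ∈ F.Hom P}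

theorem Maps.le (r : Maps F) : r.1 ≤ S := (F.le_of_mem r.2.2).1
theorem Maps.mem (r : Maps F) (x : r.1) : r.2.1 x ∈ S := (F.le_of_mem r.2.2).2 x

theorem exists_g (r : Maps F) : ∃ g : Equiv.Perm S, ∀ x : r.1,
    g * jS S ⟨x, r.le F x.2⟩ = jS S ⟨r.2.1 x, r.mem F x⟩ * g := by
  let P' := r.1.subgroupOf S
  let ψ : P' →* S := (r.2.1.codRestrict S (r.mem F)).comp
    (Subgroup.subgroupOfEquivOfLe (r.le F)).toMonoidHom
  have hψ : Function.Injective ψ := fun a b h =>
    (Subgroup.subgroupOfEquivOfLe (r.le F)).injective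
      (F.injective_of_mem r.2.2 (congrArg Subtype.val h))
  obtain ⟨g, hg⟩ := exists_perm_conj P' ψ hψ
  exact ⟨g, fun x => Equiv.ext fun s => hg ⟨⟨x, r.le F x.2⟩, x.2⟩ s⟩

/-- The permutation attached to a map. -/
noncomputable def gg (r : Maps F) : Equiv.Perm S := (exists_g F r).choose

theorem gg_spec (r : Maps F) (x : r.1) :
    gg F r * jS S ⟨x, r.le F x.2⟩ = jS S ⟨r.2.1 x, r.mem F x⟩ * gg F r :=
  (exists_g F r).choose_spec x

/-- The edge stabiliser. -/
def edgeSub (r : Maps F) : Subgroup (Equiv.Perm S) := (r.2.1.range.subgroupOf S).map (jS S)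

theorem mem_edgeSub {r : Maps F} {q : Equiv.Perm S} :
    q ∈ edgeSub F r ↔ ∃ x : r.1, jS S ⟨r.2.1 x, r.mem F x⟩ = q := by
  constructor
  · rintro ⟨y, ⟨x, hx⟩, rfl⟩
    exact ⟨x, congrArg (jS S) (Subtype.ext hx)⟩
  · rintro ⟨x, rfl⟩
    exact ⟨_, ⟨x, rfl⟩, rfl⟩

/-- Edges. -/
abbrev Edge : Type u := Σ r : Maps F, Equiv.Perm S ⧸ edgeSub F r

/-- The incidence structure. -/
noncomputable def inc : Incidence (Equiv.Perm S) (Edge F) (jS S).range where
  src e := Subgroup.quotientMapOfLE (Subgroup.map_le_range _ _) e.2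
  tgt e := Quotient.liftOn' e.2 (fun τ => ((τ * gg F e.1 : Equiv.Perm S) :
      Equiv.Perm S ⧸ (jS S).range)) (by
    intro a b hab
    rw [QuotientGroup.leftRel_apply] at hab
    obtain ⟨x, hx⟩ := (mem_edgeSub F).1 hab
    refine QuotientGroup.eq.2 ⟨⟨x, e.1.le F x.2⟩, ?_⟩
    rw [mul_inv_rev, mul_assoc, ← mul_assoc a⁻¹, ← hx, ← gg_spec, inv_mul_cancel_left])
  src_smul σ e := by
    rcases e with ⟨r, c⟩
    induction c using Quotient.inductionOn' with
    | h τ => rfl
  tgt_smul σ e := by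
    rcases e with ⟨r, c⟩
    induction c using Quotient.inductionOn' with
    | h τ => exact congrArg QuotientGroup.mk (mul_assoc σ τ (gg F r))

theorem mem_hom_of_path (n : ℕ) : ∀ (L : List (Edge F × Bool)), L.length = n →
    ∀ (σ : Equiv.Perm S) (P : Subgroup Ω) (hP : P ≤ S) (φ : P →* Ω) (hφ : ∀ x : P, φ x ∈ S),
    (inc F).IsPath ((1 : Equiv.Perm S) : Equiv.Perm S ⧸ (jS S).range) L (σ : Equiv.Perm S) →
    (∀ x : P, ∀ a ∈ L, jS S ⟨φ x, hφ x⟩ • a.1 = a.1) →
    (∀ x : P, σ * jS S ⟨x, hP x.2⟩ = jS S ⟨φ x, hφ x⟩ * σ) → φ ∈ F.Hom P := by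
  induction n with
  | zero =>
    intro L hL σ P hP φ hφ hp _ hc
    obtain rfl := List.eq_nil_of_length_eq_zero hL
    obtain ⟨s, hs⟩ : σ ∈ (jS S).range := by
      have h1 : ((1 : Equiv.Perm S) : Equiv.Perm S ⧸ (jS S).range) = (σ : Equiv.Perm S) := hp
      simpa using QuotientGroup.eq.1 h1
    have heq : φ = conjHom P (s : Ω) := by
      ext x
      have := hc x
      rw [← hs, ← _root_.map_mul, ← _root_.map_mul] at this
      have := congrArg Subtype.val (jS_inj this)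
      simp only [Subgroup.coe_mul] at this
      show φ x = (s : Ω) * x * (s : Ω)⁻¹
      rw [this, mul_inv_cancel_right]
    rw [heq]
    exact F.conj_mem hP s.2
  | succ n ih =>
    intro L hL σ P hP φ hφ hp hfix hc
    rcases L with _ | ⟨⟨⟨r, c⟩, b⟩, L'⟩
    · simp at hL
    obtain ⟨τ, rfl⟩ := QuotientGroup.mk_surjective c
    obtain ⟨hstart, hrest⟩ := hp
    -- reduce to a shorter word
    suffices H : ∃ (D : Subgroup Ω) (χ : D →* Ω) (hχ : χ ∈ F.Hom D) (s : S) (m : Equiv.Perm S),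
        m • (inc F).ter (⟨r, (τ : Equiv.Perm S ⧸ edgeSub F r)⟩, b) =
          ((1 : Equiv.Perm S) : Equiv.Perm S ⧸ (jS S).range) ∧
        (∀ z : D, jS S (s * ⟨χ z, (F.le_of_mem hχ).2 z⟩ * s⁻¹) =
          m⁻¹ * jS S ⟨z, (F.le_of_mem hχ).1 z.2⟩ * m) ∧
        ∀ x : P, ∃ z : D, m * jS S ⟨φ x, hφ x⟩ * m⁻¹ = jS S ⟨z, (F.le_of_mem hχ).1 z.2⟩ by
      obtain ⟨D, χ, hχ, s, m, hm1, hm2, hm3⟩ := H
      choose z hz using hm3
      have hzinj : ∀ {a b : D}, jS S ⟨a, (F.le_of_mem hχ).1 a.2⟩ = jS S ⟨b, (F.le_of_mem hχ).1 b.2⟩ →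
          a = b := fun h => Subtype.ext (Subtype.mk.inj (jS_inj h))
      let f : P →* D := MonoidHom.mk' z (fun a b => hzinj (by
        rw [← hz]
        conv_rhs => rw [show (⟨((z a * z b : D) : Ω), (F.le_of_mem hχ).1 (z a * z b).2⟩ : S) =
          ⟨z a, (F.le_of_mem hχ).1 (z a).2⟩ * ⟨z b, (F.le_of_mem hχ).1 (z b).2⟩ from rfl,
          _root_.map_mul, ← hz, ← hz]
        rw [show (⟨φ (a * b), hφ (a * b)⟩ : S) = ⟨φ a, hφ a⟩ * ⟨φ b, hφ b⟩ from
          Subtype.ext (_root_.map_mul φ a b), _root_.map_mul]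
        group))
      let φ' : P →* Ω := D.subtype.comp f
      have hφ' : ∀ x : P, φ' x ∈ S := fun x => (F.le_of_mem hχ).1 (z x).2
      have hmem : φ' ∈ F.Hom P := by
        refine ih (sm m L') (by simpa using hL) (m * σ) P hP φ' hφ' ?_ ?_ ?_
        · have := path_sm (inc F) m hrest
          rw [hm1] at this
          exact this
        · intro x a ha
          obtain ⟨a₀, ha₀, rfl⟩ := List.mem_map.1 ha
          show jS S ⟨(z x : Ω), _⟩ • (m • a₀.1) = m • a₀.1
          rw [← hz x, ← mul_smul, inv_mul_cancel_right, mul_smul,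
            hfix x a₀ (List.mem_cons_of_mem _ ha₀)]
        · intro x
          show m * σ * _ = jS S ⟨(z x : Ω), _⟩ * (m * σ)
          rw [mul_assoc, hc x, ← hz x]
          group
      have hcomp : χ.comp (φ'.codRestrict D fun x => (z x).2) ∈ F.Hom P :=
        F.comp_mem hmem hχ _
      have hfin := F.comp_mem hcomp (F.conj_mem le_rfl s.2)
        (fun x => (F.le_of_mem hcomp).2 x)
      convert hfin using 1
      ext x
      have h4 := hm2 (z x)
      rw [← hz x] at h4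
      have h5 : (⟨φ x, hφ x⟩ : S) = s * ⟨χ (z x), (F.le_of_mem hχ).2 (z x)⟩ * s⁻¹ :=
        jS_inj (by rw [h4]; group)
      exact congrArg Subtype.val h5
    cases b with
    | true =>
      obtain ⟨s, hs⟩ : τ ∈ (jS S).range := by
        have h1 : ((τ : Equiv.Perm S) : Equiv.Perm S ⧸ (jS S).range) = (1 : Equiv.Perm S) := hstart
        simpa using QuotientGroup.eq.1 h1
      refine ⟨r.1, r.2.1, r.2.2, s, (gg F r)⁻¹ * (jS S s)⁻¹, ?_, ?_, ?_⟩
      · show _ • ((τ * gg F r : Equiv.Perm S) : Equiv.Perm S ⧸ (jS S).range) = _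
        rw [MulAction.Quotient.smul_mk, ← hs]; simp [mul_assoc]
      · intro z
        rw [_root_.map_mul, _root_.map_mul, map_inv, mul_inv_rev, inv_inv, inv_inv,
          mul_assoc (jS S s) (gg F r), gg_spec F r z]
        group
      · intro x
        have h6 := hfix x _ (List.mem_cons_self ..)
        rw [Sigma.smul_mk, MulAction.Quotient.smul_mk] at h6
        have h7 := QuotientGroup.eq.1 (eq_of_heq (Sigma.mk.inj_iff.1 h6).2).symm
        obtain ⟨z, hz⟩ := (mem_edgeSub F).1 h7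
        refine ⟨z, ?_⟩
        rw [smul_eq_mul, ← hs] at hz
        have := gg_spec F r z
        rw [hz] at this
        rw [← inv_mul_eq_iff_eq_mul.2 this.symm]
        group
    | false =>
      obtain ⟨s, hs⟩ : τ * gg F r ∈ (jS S).range := by
        have h1 : ((τ * gg F r : Equiv.Perm S) : Equiv.Perm S ⧸ (jS S).range) =
          (1 : Equiv.Perm S) := hstart
        simpa using QuotientGroup.eq.1 h1.symm
      obtain ⟨ψ0, hψ0, hψ0e⟩ := F.inv_mem r.2.2
      have hτ : τ = jS S s * (gg F r)⁻¹ := by rw [hs, mul_inv_cancel_right]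
      refine ⟨r.2.1.range, ψ0, hψ0, s, τ⁻¹, ?_, ?_, ?_⟩
      · show _ • ((τ : Equiv.Perm S) : Equiv.Perm S ⧸ (jS S).range) = _
        rw [MulAction.Quotient.smul_mk]; simp
      · rintro ⟨_, x, rfl⟩
        have h8 : (⟨ψ0 ⟨r.2.1 x, ⟨x, rfl⟩⟩, (F.le_of_mem hψ0).2 _⟩ : S) = ⟨x, r.le F x.2⟩ :=
          Subtype.ext (hψ0e x)
        rw [h8, inv_inv, _root_.map_mul, _root_.map_mul, map_inv, hτ, mul_assoc (jS S s),
          ← inv_mul_eq_iff_eq_mul.2 (gg_spec F r x).symm]
        group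
      · intro x
        have h6 := hfix x _ (List.mem_cons_self ..)
        rw [Sigma.smul_mk, MulAction.Quotient.smul_mk] at h6
        have h7 := QuotientGroup.eq.1 (eq_of_heq (Sigma.mk.inj_iff.1 h6).2).symm
        obtain ⟨z, hz⟩ := (mem_edgeSub F).1 h7
        exact ⟨⟨r.2.1 z, z, rfl⟩, by rw [hz, smul_eq_mul, inv_inv, mul_assoc]⟩

theorem realised : ∃ (G : Type u) (_ : Group G) (ι : ↥S →* G), F.IsRealizedBy ι ∧
    (∀ H : Subgroup G, Finite ↥H → ∃ g : G, ∀ h ∈ H, g * h * g⁻¹ ∈ ι.range) ∧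
      ∃ N : Subgroup G, N.Normal ∧ IsFreeGroup ↥N ∧ N.index ∣ (Nat.card ↥S).factorial := by
  classical
  let G := pathGroup (inc F)
  let ι : S →* G := ((SemidirectProduct.inr).comp (jS S)).codRestrict G
    fun s => inr_mem (inc F) ⟨s, rfl⟩
  have hιi : Function.Injective ι := fun a b h =>
    jS_inj (SemidirectProduct.inr_injective (congrArg Subtype.val h))
  refine ⟨G, inferInstance, ι, ⟨hιi, fun P hP φ hφ => ⟨fun h => ?_, ?_⟩⟩, ?_,
    (proj (inc F)).ker, MonoidHom.normal_ker _, isFreeGroup_ker (inc F), ?_⟩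
  · let r : Maps F := ⟨P, φ, h⟩
    let e : Edge F := ⟨r, ((1 : Equiv.Perm S) : Equiv.Perm S ⧸ edgeSub F r)⟩
    let t : G := ⟨⟨FreeGroup.mk [(e, true)], gg F r⟩, [(e, true)], rfl, rfl, by
      show ((1 * gg F r : Equiv.Perm S) : Equiv.Perm S ⧸ (jS S).range) = _
      rw [one_mul]⟩
    refine ⟨t, fun x => eq_mul_inv_of_mul_eq (Subtype.ext ?_)⟩
    refine SemidirectProduct.ext ?_ (gg_spec F r x).symm
    show 1 * act (jS S ⟨φ x, hφ x⟩) (FreeGroup.mk [(e, true)]) =
      FreeGroup.mk [(e, true)] * act (gg F r) 1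
    rw [_root_.map_one, one_mul, mul_one, act_eq_of_fixed]
    intro a ha
    simp only [List.mem_singleton] at ha
    subst ha
    simp only [e, Sigma.smul_mk, MulAction.Quotient.smul_mk]
    congr 1
    refine QuotientGroup.eq.2 ?_
    simpa using (edgeSub F r).inv_mem ((mem_edgeSub F).2 ⟨x, rfl⟩)
  · rintro ⟨g, hg⟩
    have h0 : ∀ x : P, ι ⟨φ x, hφ x⟩ * g = g * ι ⟨x, hP x.2⟩ := fun x => by
      rw [hg x, inv_mul_cancel_right]
    have h1 : ∀ x : P, act (jS S ⟨φ x, hφ x⟩) (g : Amb (Equiv.Perm S) (Edge F)).left =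
        (g : Amb (Equiv.Perm S) (Edge F)).left := fun x => by
      simpa [ι, SemidirectProduct.mul_left] using
        congrArg SemidirectProduct.left (congrArg Subtype.val (h0 x))
    refine mem_hom_of_path F _ _ rfl (g : Amb (Equiv.Perm S) (Edge F)).right P hP φ hφ
      (mem_toWord (inc F) g.2) (fun x => fixed_letters (h1 x)) (fun x => ?_)
    exact (congrArg SemidirectProduct.right (congrArg Subtype.val (h0 x))).symm
  · intro H hH
    obtain ⟨g, hg⟩ := finite_conj (inc F) H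
    refine ⟨g, fun h hh => ?_⟩
    obtain ⟨k, ⟨s, rfl⟩, hk⟩ := hg h hh
    exact ⟨s, Subtype.ext hk.symm⟩
  · refine (index_ker_dvd (inc F)).trans ?_
    rw [Nat.card_perm]

end Cfsg.Agent.GraphGroup
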