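import Cfsg.Agent.Lib.GraphGroup.Basic

/-!
Paths in the coset graph and the subgroup of `FreeGroup E ⋊ Γ` of paths from the base vertex.
-/

namespace Cfsg.Agent.GraphGroup

open FreeGroup

universe u

variable {Γ E : Type u} [Group Γ] [MulAction Γ E]

/-- An equivariant incidence structure on `E` with vertices `Γ ⧸ K`. -/
structure Incidence (Γ E : Type u) [Group Γ] [MulAction Γ E] (K : Subgroup Γ) where
  src : E → Γ ⧸ K
  tgt : E → Γ ⧸ K
  src_smul : ∀ (σ : Γ) (e : E), src (σ • e) = σ • src e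
  tgt_smul : ∀ (σ : Γ) (e : E), tgt (σ • e) = σ • tgt e

variable {K : Subgroup Γ} (I : Incidence Γ E K)

/-- Start of a letter. -/
def Incidence.ini (x : E × Bool) : Γ ⧸ K := bif x.2 then I.src x.1 else I.tgt x.1
/-- End of a letter. -/
def Incidence.ter (x : E × Bool) : Γ ⧸ K := bif x.2 then I.tgt x.1 else I.src x.1

/-- `L` is a path from `v` to `v'`. -/
def Incidence.IsPath : Γ ⧸ K → List (E × Bool) → Γ ⧸ K → Prop
  | v, [], v' => v = v'
  | v, x :: L, v' => I.ini x = v ∧ Incidence.IsPath (I.ter x) L v'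

theorem ini_neg (x : E × Bool) : I.ini (x.1, !x.2) = I.ter x := by
  rcases x with ⟨e, b⟩; cases b <;> rfl

theorem ter_neg (x : E × Bool) : I.ter (x.1, !x.2) = I.ini x := by
  rcases x with ⟨e, b⟩; cases b <;> rfl

theorem path_append {L M : List (E × Bool)} {v w : Γ ⧸ K} :
    I.IsPath v (L ++ M) w ↔ ∃ z, I.IsPath v L z ∧ I.IsPath z M w := by
  induction L generalizing v with
  | nil => simp [Incidence.IsPath]
  | cons x L ih => simp [Incidence.IsPath, ih, and_assoc]

theorem path_step {L M : List (E × Bool)} (h : Red.Step L M) {v w : Γ ⧸ K}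
    (hp : I.IsPath v L w) : I.IsPath v M w := by
  cases h with
  | @not L₁ L₂ x b =>
    obtain ⟨z, h1, h2⟩ := (path_append I).1 hp
    obtain ⟨h3, h4, h5⟩ := h2
    rw [show I.ter (x, !b) = I.ini (x, b) from ter_neg I (x, b), h3] at h5
    exact (path_append I).2 ⟨z, h1, h5⟩

theorem path_red {L M : List (E × Bool)} (h : Red L M) {v w : Γ ⧸ K}
    (hp : I.IsPath v L w) : I.IsPath v M w := by
  induction h with
  | refl => exact hp
  | tail _ hs ih => exact path_step I hs ih

theorem path_invRev {L : List (E × Bool)} {v w : Γ ⧸ K} (hp : I.IsPath v L w) :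
    I.IsPath w (invRev L) v := by
  induction L generalizing v with
  | nil => exact hp.symm
  | cons x L ih =>
    obtain ⟨h1, h2⟩ := hp
    rw [invRev_cons]
    refine (path_append I).2 ⟨I.ter x, ih h2, ?_⟩
    show I.IsPath _ [(x.1, !x.2)] _
    exact ⟨ini_neg I x, (ter_neg I x).trans h1⟩

theorem ini_smul (σ : Γ) (x : E × Bool) : I.ini (σ • x.1, x.2) = σ • I.ini x := by
  rcases x with ⟨e, b⟩; cases b <;> simp [Incidence.ini, I.src_smul, I.tgt_smul]

theorem ter_smul (σ : Γ) (x : E × Bool) : I.ter (σ • x.1, x.2) = σ • I.ter x := by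
  rcases x with ⟨e, b⟩; cases b <;> simp [Incidence.ter, I.src_smul, I.tgt_smul]

theorem path_sm (σ : Γ) {L : List (E × Bool)} {v w : Γ ⧸ K} (hp : I.IsPath v L w) :
    I.IsPath (σ • v) (sm σ L) (σ • w) := by
  induction L generalizing v with
  | nil => exact congrArg _ hp
  | cons x L ih =>
    obtain ⟨h1, h2⟩ := hp
    refine ⟨(ini_smul I σ x).trans (congrArg _ h1), ?_⟩
    rw [ter_smul]; exact ih h2

/-- The ambient group. -/
abbrev Amb (Γ E : Type u) [Group Γ] [MulAction Γ E] : Type u := FreeGroup E ⋊[act] Γ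

/-- The group of paths. -/
def pathGroup : Subgroup (Amb Γ E) where
  carrier := {g | ∃ L, FreeGroup.mk L = g.left ∧
    I.IsPath ((1 : Γ) : Γ ⧸ K) L ((g.right : Γ) : Γ ⧸ K)}
  one_mem' := ⟨[], rfl, rfl⟩
  mul_mem' := by
    rintro a b ⟨L, hL, hp⟩ ⟨M, hM, hq⟩
    refine ⟨L ++ sm a.right M, ?_, (path_append I).2 ⟨_, hp, ?_⟩⟩
    · rw [SemidirectProduct.mul_left, ← hL, ← hM, act_mk, mul_mk]
    · have := path_sm I a.right hq
      simpa [MulAction.Quotient.smul_mk] using this
  inv_mem' := by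
    rintro a ⟨L, hL, hp⟩
    refine ⟨sm a.right⁻¹ (invRev L), ?_, ?_⟩
    · rw [SemidirectProduct.inv_left, ← hL, inv_mk, act_mk]
    · have := path_sm I a.right⁻¹ (path_invRev I hp)
      simpa [MulAction.Quotient.smul_mk] using this

theorem mem_toWord [DecidableEq E] {g : Amb Γ E} (h : g ∈ pathGroup I) :
    I.IsPath ((1 : Γ) : Γ ⧸ K) g.left.toWord ((g.right : Γ) : Γ ⧸ K) := by
  obtain ⟨L, hL, hp⟩ := h
  rw [← hL, toWord_mk]
  exact path_red I reduce.red hp

theorem inr_mem {k : Γ} (hk : k ∈ K) : (SemidirectProduct.inr k : Amb Γ E) ∈ pathGroup I := by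
  refine ⟨[], rfl, ?_⟩
  show _ = _
  exact (QuotientGroup.eq.2 (by simpa using hk))

/-- Finite subgroups of the path group are conjugate into `K`. -/
theorem finite_conj (H : Subgroup (pathGroup I)) [Finite H] :
    ∃ g : pathGroup I, ∀ h ∈ H, ∃ k ∈ K,
      ((g * h * g⁻¹ : pathGroup I) : Amb Γ E) = SemidirectProduct.inr k := by
  classical
  obtain ⟨A, i₀, hA, k, hfix⟩ := exists_fixed (fun h : H => ((h : pathGroup I) : Amb Γ E).left)
    (fun h : H => ((h : pathGroup I) : Amb Γ E).right) ⟨1, rfl⟩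
    (fun i j => ⟨i * j, rfl⟩)
  have hp := mem_toWord I (i₀ : pathGroup I).2
  rw [hA, ← List.take_append_drop k A, path_append] at hp
  obtain ⟨z, hz, -⟩ := hp
  obtain ⟨τ, rfl⟩ := QuotientGroup.mk_surjective z
  let t : pathGroup I := ⟨⟨FreeGroup.mk (A.take k), τ⟩, A.take k, rfl, hz⟩
  refine ⟨t⁻¹, fun h hh => ?_⟩
  set g := t⁻¹ * h * t⁻¹⁻¹ with hg
  have hl : (g : Amb Γ E).left = 1 := by
    have h1 := hfix ⟨h, hh⟩
    simp only [hg, inv_inv, Subgroup.coe_mul, Subgroup.coe_inv, SemidirectProduct.mul_left,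
      SemidirectProduct.inv_left, SemidirectProduct.mul_right, SemidirectProduct.inv_right, t]
    simp only at h1
    rw [_root_.map_mul, MulAut.mul_apply, mul_assoc, ← _root_.map_mul, h1,
      ← _root_.map_mul, inv_mul_cancel, _root_.map_one]
  refine ⟨(g : Amb Γ E).right, ?_, SemidirectProduct.ext hl rfl⟩
  have hp := mem_toWord I g.2
  rw [hl, toWord_one] at hp
  simpa using QuotientGroup.eq.1 (show ((1 : Γ) : Γ ⧸ K) = _ from hp)

/-- The projection to `Γ`. -/
def proj : pathGroup I →* Γ := SemidirectProduct.rightHom.comp (pathGroup I).subtype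

theorem isFreeGroup_ker : IsFreeGroup (proj I).ker := by
  let f : (proj I).ker →* FreeGroup E :=
    { toFun := fun g => ((g : pathGroup I) : Amb Γ E).left
      map_one' := rfl
      map_mul' := fun a b => by
        have ha : ((a : pathGroup I) : Amb Γ E).right = 1 := a.2
        simp [SemidirectProduct.mul_left, ha] }
  have hf : Function.Injective f := by
    intro a b h
    have ha : ((a : pathGroup I) : Amb Γ E).right = 1 := a.2
    have hb : ((b : pathGroup I) : Amb Γ E).right = 1 := b.2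
    exact Subtype.ext (Subtype.ext (SemidirectProduct.ext h (ha.trans hb.symm)))
  have : IsFreeGroup f.range := inferInstance
  exact ((IsFreeGroup.basis f.range).map (MonoidHom.ofInjective hf).symm).isFreeGroup

theorem index_ker_dvd [Finite Γ] : (proj I).ker.index ∣ Nat.card Γ := by
  rw [Subgroup.index_ker]
  exact Subgroup.card_subgroup_dvd_card _

end Cfsg.Agent.GraphGroup
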